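import Groth.Prelude.Def_AlgGrp
import Groth.Agent.S11410
import Groth.Agent.Lib.AVProj
import Groth.Agent.GrpSchLib.HomFinite
import Groth.Agent.GrpSchLib.MonoSubgroup
import Groth.Agent.GrpSchLib.ConnKernel
import Groth.Agent.GrpSchLib.DiagActionRigid

/-!
The orbit maps of a faithful action of an abelian variety are finite.
-/

set_option autoImplicit false
set_option linter.style.haveILetI false
set_option linter.unusedSectionVars false
set_option backward.isDefEq.respectTransparency false
set_option backward.isDefEq.respectTransparency.types false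
set_option maxHeartbeats 800000

universe u

open CategoryTheory CategoryTheory.Limits MonoidalCategory CartesianMonoidalCategory MonObj AlgebraicGeometry
open TopologicalSpace

noncomputable section

namespace Groth.Agent.AVEquivar

variable {k : Type u} [Field k] {A X : Over (Spec (CommRingCat.of k))} [GrpObj A] (a : AlgGrp.Action A X)

local notation3 "pt₀" => 𝟙_ (Over (Spec (CommRingCat.of k)))

/-- The unit acts trivially on points. -/
theorem act_one {T : Over (Spec (CommRingCat.of k))} (x : T ⟶ X) : lift (1 : T ⟶ A) x ≫ a.act = x := by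
  have h : lift (toUnit T) x ≫ (η[A] ▷ X) ≫ a.act = lift (toUnit T) x ≫ (λ_ X).hom := by rw [a.one_act]
  rw [← Category.assoc, lift_whiskerRight, leftUnitor_hom, lift_snd] at h
  exact h

/-- The orbit map of a point. -/
def orb (x₀ : pt₀ ⟶ X) : A ⟶ X := lift (𝟙 A) (toUnit A ≫ x₀) ≫ a.act

theorem comp_orb (x₀ : pt₀ ⟶ X) {T : Over (Spec (CommRingCat.of k))} (g : T ⟶ A) :
    g ≫ orb a x₀ = lift g (toUnit T ≫ x₀) ≫ a.act := by
  rw [orb, ← Category.assoc, comp_lift, Category.comp_id, ← Category.assoc g (toUnit A), comp_toUnit]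

/-- The translation of the variety by a point of the group. -/
def tau (g : pt₀ ⟶ A) : X ⟶ X := lift (toUnit X ≫ g) (𝟙 X) ≫ a.act

theorem comp_tau (g : pt₀ ⟶ A) {T : Over (Spec (CommRingCat.of k))} (x : T ⟶ X) :
    x ≫ tau a g = lift (toUnit T ≫ g) x ≫ a.act := by
  rw [tau, ← Category.assoc, comp_lift, Category.comp_id, ← Category.assoc x (toUnit X), comp_toUnit]

theorem tau_tau (g : pt₀ ⟶ A) : tau a g ≫ tau a g⁻¹ = 𝟙 X := by
  rw [comp_tau]
  show lift (toUnit X ≫ g⁻¹) (lift (toUnit X ≫ g) (𝟙 X) ≫ a.act) ≫ a.act = _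
  rw [← GrpSchLib.DiagActionRigid.act_mul, GrpObj.comp_inv, inv_mul_cancel, act_one]

theorem trans_orb (x₀ : pt₀ ⟶ X) (g : pt₀ ⟶ A) :
    (GrpSchLib.HomFinite.trans g).hom ≫ orb a x₀ = orb a x₀ ≫ tau a g := by
  rw [comp_orb, comp_tau]
  show lift ((toUnit A ≫ g) * 𝟙 A) _ ≫ a.act = _
  rw [GrpSchLib.DiagActionRigid.act_mul]
  rfl

variable [IsAlgClosed k] [IsProper A.hom] [Smooth A.hom]
  [LocallyOfFiniteType X.hom] [QuasiCompact X.hom] [IsSeparated X.hom] [IsIntegral X.left]
  (hfaith : ∀ g : 𝟙_ (Over (Spec (CommRingCat.of k))) ⟶ A, lift (toUnit X ≫ g) (𝟙 X) ≫ a.act = 𝟙 X → g = η[A])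

include hfaith in
/-- The fibre of the orbit map at the point itself is finite. -/
theorem finite_fibre (x₀ : pt₀ ⟶ X) :
    ((orb a x₀).left ⁻¹' {x₀.left (IsLocalRing.closedPoint k)}).Finite := by
  haveI : IsClosedImmersion x₀.left := by
    haveI : IsClosedImmersion (x₀.left ≫ X.hom) := by
      rw [Over.w x₀]
      exact inferInstanceAs (IsClosedImmersion (𝟙 (Spec (CommRingCat.of k))))
    exact IsClosedImmersion.of_comp x₀.left X.hom
  let o := orb a x₀
  let St : Over (Spec (CommRingCat.of k)) := Over.mk (pullback.fst o.left x₀.left ≫ A.hom)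
  let s : St ⟶ A := Over.homMk (pullback.fst o.left x₀.left)
  haveI hs : IsClosedImmersion s.left :=
    inferInstanceAs (IsClosedImmersion (pullback.fst o.left x₀.left))
  haveI : Mono s := Over.mono_of_mono_left s
  have hsnd : pullback.snd o.left x₀.left = St.hom := by
    show _ = pullback.fst o.left x₀.left ≫ A.hom
    rw [← Over.w o, pullback.condition_assoc, Over.w x₀]
    exact (Category.comp_id _).symm
  have huniv : ∀ (T : Over (Spec (CommRingCat.of k))) (g : T ⟶ A),
      (∃ t : T ⟶ St, t ≫ s = g) ↔ lift g (toUnit T ≫ x₀) ≫ a.act = toUnit T ≫ x₀ := fun T g => by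
    rw [← comp_orb]
    constructor
    · rintro ⟨t, rfl⟩
      refine Over.OverMorphism.ext ?_
      show (t.left ≫ pullback.fst o.left x₀.left) ≫ o.left = T.hom ≫ x₀.left
      rw [Category.assoc, pullback.condition, hsnd, ← Category.assoc, Over.w t]
    · intro h
      refine ⟨Over.homMk (pullback.lift g.left T.hom (congrArg CommaMorphism.left h)) ?_, ?_⟩
      · show pullback.lift g.left T.hom _ ≫ pullback.fst o.left x₀.left ≫ A.hom = T.hom
        rw [pullback.lift_fst_assoc, Over.w g]
      · exact Over.OverMorphism.ext (pullback.lift_fst _ _ _)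
  have hfix : ∀ {T : Over (Spec (CommRingCat.of k))} (t : T ⟶ St),
      lift (t ≫ s) (toUnit T ≫ x₀) ≫ a.act = toUnit T ≫ x₀ := fun t => (huniv _ _).1 ⟨t, rfl⟩
  obtain ⟨η', he⟩ := (huniv pt₀ η[A]).2 (by
    rw [MonObj.one_eq_one]; exact act_one a _)
  obtain ⟨μ', hm⟩ := (huniv (St ⊗ St) ((fst St St ≫ s) * (snd St St ≫ s))).2 (by
    rw [GrpSchLib.DiagActionRigid.act_mul, hfix, hfix])
  obtain ⟨ι', hv⟩ := (huniv St s⁻¹).2 (by
    conv_lhs => rw [← hfix (𝟙 St), Category.id_comp]
    rw [← GrpSchLib.DiagActionRigid.act_mul, inv_mul_cancel, act_one])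
  obtain ⟨str, hstr⟩ := GrpSchLib.exists_grpObj_of_mono s η' he μ' hm ι' hv
  letI := str
  haveI := hstr
  haveI : IsAffine St.left := S11410.result k A X a hfaith x₀ St s huniv
  haveI : IsProper St.hom := inferInstanceAs (IsProper (s.left ≫ A.hom))
  haveI : Finite ↥St.left := AVProj.finite_of_isProper_quasiAffine St.hom
  refine (Set.finite_range s.left).subset fun y hy => ?_
  obtain ⟨w, hw, -⟩ := Scheme.Pullback.exists_preimage_pullback (f := o.left) (g := x₀.left)
    y (IsLocalRing.closedPoint k) hy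
  exact ⟨w, hw⟩

include hfaith in
/-- The orbit map is finite. -/
theorem isFinite_orb (x₀ : pt₀ ⟶ X) : IsFinite (orb a x₀).left := by
  let o := orb a x₀
  haveI : IsProper (o.left ≫ X.hom) := by rw [Over.w o]; infer_instance
  haveI : IsProper o.left := IsProper.of_comp o.left X.hom
  haveI : JacobsonSpace A.left := LocallyOfFiniteType.jacobsonSpace A.hom
  haveI : LocallyQuasiFinite o.left := by
    rw [← Scheme.Hom.quasiFiniteLocus_eq_top_iff, eq_top_iff]
    intro x _
    by_contra hx
    obtain ⟨g, hg1, hg⟩ := nonempty_inter_closedPoints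
      (Z := (o.left.quasiFiniteLocus : Set A.left)ᶜ) ⟨x, hx⟩
      o.left.quasiFiniteLocus.isOpen.isClosed_compl.isLocallyClosed
    refine hg1 ?_
    rw [SetLike.mem_coe, Scheme.Hom.mem_quasiFiniteLocus,
      Scheme.Hom.quasiFiniteAt_iff_isOpen_singleton_asFiber]
    obtain ⟨p, hp⟩ := GrpSchLib.ConnKernel.exists_pt (k := k) (X := A) hg
    let S : A.left ≅ A.left := (Over.forget _).mapIso (GrpSchLib.HomFinite.trans p)
    have hcomm : ∀ z, o.left (S.hom z) = (tau a p).left (o.left z) := fun z =>
      congrArg (fun f : A ⟶ X => f.left z) (trans_orb a x₀ p)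
    have hinj : Function.Injective (tau a p).left := fun z z' h => by
      have e := fun w => congrArg (fun f : X ⟶ X => f.left w) (tau_tau a p)
      exact (e z).symm.trans ((congrArg (tau a p⁻¹).left h).trans (e z'))
    have hSe : S.hom (η[A].left (IsLocalRing.closedPoint k)) = g := by
      refine Eq.trans ?_ hp
      have e : η[A] ≫ (GrpSchLib.HomFinite.trans p).hom = p := by
        simp [GrpSchLib.HomFinite.trans, MonObj.comp_mul, MonObj.one_eq_one]
      exact congrArg (fun f : pt₀ ⟶ A => f.left (IsLocalRing.closedPoint k)) e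
    have hoe : o.left (η[A].left (IsLocalRing.closedPoint k)) = x₀.left (IsLocalRing.closedPoint k) := by
      have e : η[A] ≫ o = x₀ := by
        rw [comp_orb, MonObj.one_eq_one, act_one, toUnit_unique (toUnit pt₀) (𝟙 _), Category.id_comp]
      exact congrArg (fun f : pt₀ ⟶ X => f.left (IsLocalRing.closedPoint k)) e
    have hf : (o.left ⁻¹' {o.left g}).Finite := by
      refine ((finite_fibre a hfaith x₀).image S.hom).subset fun y hy => ?_
      obtain ⟨y', rfl⟩ := S.hom.homeomorph.surjective y
      refine ⟨y', hinj ?_, rfl⟩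
      exact (hcomm y').symm.trans (((hy : o.left (S.hom y') = o.left g).trans
        (congrArg o.left hSe.symm)).trans ((hcomm _).trans (congrArg _ hoe)))
    haveI : Finite ↥(o.left ⁻¹' {o.left g}) := hf.to_subtype
    haveI : Finite (o.left.fiber (o.left g)) :=
      Finite.of_equiv _ (o.left.fiberHomeo (o.left g)).symm.toEquiv
    exact isOpen_discrete _
  exact IsFinite.of_isProper_of_locallyQuasiFinite o.left

end Groth.Agent.AVEquivar

end
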