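import Groth.Agent.Lib.AVDualExist
import Groth.Agent.Lib.AVDualStructClosed
import Groth.Agent.Lib.AbDualBase
import Groth.Agent.AVEquivar.Orbit

/-!
The morphism to the dual attached to an invertible module on a variety with an action of an abelian variety.
-/

set_option autoImplicit false
set_option linter.style.haveILetI false
set_option linter.unusedSectionVars false
set_option backward.isDefEq.respectTransparency false
set_option backward.isDefEq.respectTransparency.types false
set_option maxHeartbeats 1000000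
set_option synthInstance.maxHeartbeats 400000

universe u

open CategoryTheory CategoryTheory.Limits MonoidalCategory CartesianMonoidalCategory MonObj AlgebraicGeometry
open TopologicalSpace

noncomputable section

namespace Groth.Agent.AVEquivar

open Groth.Agent Groth.Agent.H23 Groth.Agent.AVPair Groth.Agent.AVCube Groth.Agent.AVKLExist
open scoped Groth.Agent.H23.PicMul

/-- A family over a geometrically connected base of finite type, trivial along a section up to the base, lies in Pic⁰. -/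
theorem pz_of_slice {S : Scheme.{u}} {A B : Over S} [LocallyOfFiniteType B.hom] [QuasiCompact B.hom] [GeometricallyConnected B.hom] (e : 𝟙_ (Over S) ⟶ B)
    {c : PicF.Cl (A ⊗ B).left} (hc : PicF.IsInvertibleCl c) {n : PicF.Cl S} (hn : PicF.IsInvertibleCl n)
    (h : PicF.pullCl (lift (𝟙 A) (toUnit A ≫ e)).left c = PicF.pullCl A.hom n) :
    AbDual.IsPicZeroCl A.hom B c := by
  obtain ⟨L, rfl, hL⟩ := hc
  refine ⟨L, rfl, hL, fun y Ω _ _ σ _ => ?_⟩
  let s := σ ≫ B.hom
  let P := pullback (snd A B).left σ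
  let T := pullback B.hom s
  let q : T ⟶ Spec (CommRingCat.of Ω) := pullback.snd B.hom s
  haveI : ConnectedSpace T :=
    GeometricallyConnected.geometrically_connectedSpace (f := B.hom) s _ _ (.of_hasPullback _ _)
  let t : Spec (CommRingCat.of Ω) ⟶ T := pullback.lift σ (𝟙 _) (Category.id_comp _).symm
  let t₀ : Spec (CommRingCat.of Ω) ⟶ T := pullback.lift (s ≫ e.left) (𝟙 _) (by
    rw [Category.assoc, Over.w e]
    show s ≫ 𝟙 _ = 𝟙 _ ≫ s
    rw [Category.comp_id, Category.id_comp])
  letI : P.Over (Spec (CommRingCat.of Ω)) := ⟨pullback.snd _ σ⟩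
  let g : Pic13.prodK Ω P q ⟶ (A ⊗ B).left :=
    pullback.lift (pullback.fst (P ↘ Spec (CommRingCat.of Ω)) q ≫ pullback.fst (snd A B).left σ ≫ (fst A B).left)
      (pullback.snd (P ↘ Spec (CommRingCat.of Ω)) q ≫ pullback.fst B.hom s) (by
      rw [Category.assoc, Category.assoc, Category.assoc, Over.w (fst A B), ← Over.w (snd A B),
        pullback.condition (f := B.hom)]
      show _ ≫ _ ≫ (snd A B).left ≫ B.hom = _
      rw [pullback.condition_assoc (f := (snd A B).left), ← Category.assoc, ← Category.assoc]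
      exact congrArg (· ≫ s) (pullback.condition (f := (P ↘ Spec (CommRingCat.of Ω)))))
  refine ⟨T, q, inferInstance, inferInstance, inferInstance, (Scheme.Modules.pullback g).obj L,
    PicClLib.isInvertible_pullback g hL, t, t₀, pullback.lift_snd _ _ _, pullback.lift_snd _ _ _, ?_, ?_⟩
  · refine ⟨(Scheme.Modules.pullbackComp _ g).app L ≪≫
      eqToIso (congrArg (fun m => (Scheme.Modules.pullback m).obj L) ?_)⟩
    apply pullback.hom_ext
    · rw [Category.assoc, pullback.lift_fst]
      erw [pullback.lift_fst_assoc]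
      rw [Category.id_comp]
      rfl
    · rw [Category.assoc, pullback.lift_snd]
      erw [pullback.lift_snd_assoc]
      rw [Category.assoc, pullback.lift_fst]
      exact pullback.condition.symm
  · refine (PicGrp.cl_eq_cl_iff _ _).1 ?_
    show PicF.pullCl _ (PicF.pullCl g (PicF.cl L : PicF.Cl (A ⊗ B).left)) = 1
    rw [PicClLib.pullCl_comp]
    have hh : pullback.fst (snd A B).left σ ≫ (fst A B).left ≫ A.hom = pullback.snd _ σ ≫ s := by
      rw [Over.w (fst A B), ← Over.w (snd A B), pullback.condition_assoc]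
    refine (congrArg (fun m => PicF.pullCl m (PicF.cl L : PicF.Cl (A ⊗ B).left))
      (show _ = (pullback.fst (snd A B).left σ ≫ (fst A B).left) ≫ (lift (𝟙 A) (toUnit A ≫ e)).left from ?_)).trans ?_
    rotate_left
    · rw [← PicClLib.pullCl_comp, h, PicClLib.pullCl_comp, Category.assoc, hh, ← PicClLib.pullCl_comp,
        AbDualBase.pullCl_point s hn, PicMul.pullCl_one]
    apply pullback.hom_ext
    · rw [Category.assoc, pullback.lift_fst]
      erw [pullback.lift_fst_assoc]
      rw [Category.id_comp]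
      show _ = (_ ≫ (lift (𝟙 A) (toUnit A ≫ e)).left) ≫ (fst A B).left
      rw [Category.assoc _ (lift (𝟙 A) (toUnit A ≫ e)).left, ← Over.comp_left, lift_fst, Over.id_left,
        Category.comp_id]
    · rw [Category.assoc, pullback.lift_snd]
      erw [pullback.lift_snd_assoc]
      rw [Category.assoc, pullback.lift_fst]
      show _ = (_ ≫ (lift (𝟙 A) (toUnit A ≫ e)).left) ≫ (snd A B).left
      rw [Category.assoc _ (lift (𝟙 A) (toUnit A ≫ e)).left, ← Over.comp_left, lift_snd, Over.comp_left,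
        show (toUnit A).left = A.hom from rfl]
      refine Eq.trans ?_ (by rw [Category.assoc, reassoc_of% hh])
      rfl

variable {k : Type u} [Field k] [IsAlgClosed k] {A X : Over (Spec (CommRingCat.of k))} [GrpObj A] [IsProper A.hom]
  [Smooth A.hom] [GeometricallyIntegral A.hom] [GeometricallyConnected A.hom]
  [LocallyOfFiniteType X.hom] [QuasiCompact X.hom] [GeometricallyConnected X.hom]
  (a : AlgGrp.Action A X)

/-- An invertible module on the variety whose pullback along an orbit is ample gives a morphism to the quotient by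
its kernel which turns the orbit into the projection. -/
theorem exists_psi (x₀ : 𝟙_ (Over (Spec (CommRingCat.of k))) ⟶ X) {L : X.left.Modules} (hL : PicF.IsInvertible L)
    (hamp : CohB1.IsAmple ((Scheme.Modules.pullback (orb a x₀).left).obj L)) :
    ∃ (Q : Over (Spec (CommRingCat.of k))) (_ : GrpObj Q) (q : A ⟶ Q) (_ : IsMonHom q) (ψ : X ⟶ Q),
      IsProper Q.hom ∧ GeometricallyIntegral Q.hom ∧ Smooth Q.hom ∧ IsFinite q.left ∧ Surjective q.left ∧
      x₀ ≫ ψ = 1 ∧ orb a x₀ ≫ ψ = q := by
  let o := orb a x₀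
  let D := (Scheme.Modules.pullback o.left).obj L
  have hD : PicF.IsInvertible D := PicClLib.isInvertible_pullback _ hL
  obtain ⟨Q, grp, q, hq, P, hQp, hQgi, hQsm, hqf, -, hqs, hdim, hP, hqc, hsep⟩ := AVDualExist.exists_dual hD hamp
  letI := grp
  haveI := hq; haveI := hQp; haveI := hQgi; haveI := hQsm
  haveI : IsIntegral A.left := GeometricallyIntegral.isIntegral_of_subsingleton A.hom
  have hpc : ∀ {T : Over (Spec (CommRingCat.of k))} (f : T ⟶ A), pc hD f = pc hL (f ≫ o) := fun f => Units.ext (by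
    rw [val_pc', val_pc']
    show PicF.pullCl f.left (PicF.pullCl o.left (PicF.cl L)) = _
    rw [PicClLib.pullCl_comp, Over.comp_left])
  have hconst : ∀ {T : Over (Spec (CommRingCat.of k))}, pc hL (toUnit T ≫ x₀) = 1 := fun {T} => Units.ext (by
    rw [val_pc']
    exact AVPair.pl_const ⟨L, rfl, hL⟩ x₀)
  let c : (PicF.Cl (A ⊗ X).left)ˣ := pc hL a.act * (pc hL (snd A X))⁻¹ * (pc hL (fst A X ≫ o))⁻¹
  have hval : ∀ {T T' : Over (Spec (CommRingCat.of k))} (f : T' ⟶ T) (v : (PicF.Cl T.left)ˣ),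
      pl f (v : PicF.Cl T.left) =
        ((Units.map (PicMul.pullHom f.left : PicF.Cl T.left →* PicF.Cl T'.left) v : (PicF.Cl T'.left)ˣ) :
          PicF.Cl T'.left) := fun f v => rfl
  have hc1 : pl (lift (1 : X ⟶ A) (𝟙 X)) (c : PicF.Cl (A ⊗ X).left) = 1 := by
    rw [hval]
    simp only [c, map_mul, map_inv, pull_pc, lift_fst_assoc, lift_snd]
    rw [show lift (1 : X ⟶ A) (𝟙 X) ≫ a.act = 𝟙 X from act_one a _, show (1 : X ⟶ A) ≫ o = toUnit X ≫ x₀ from
      (comp_orb a x₀ _).trans (act_one a _), hconst, inv_one, _root_.mul_one, mul_inv_cancel]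
    rfl
  have hc2 : pl (lift (𝟙 A) (toUnit A ≫ x₀)) (c : PicF.Cl (A ⊗ X).left) = 1 := by
    rw [hval]
    simp only [c, map_mul, map_inv, pull_pc, lift_fst_assoc, lift_snd, Category.id_comp]
    rw [show lift (𝟙 A) (toUnit A ≫ x₀) ≫ a.act = o from rfl, hconst, inv_one, _root_.mul_one, mul_inv_cancel]
    rfl
  have hcI : PicF.IsInvertibleCl (c : PicF.Cl (A ⊗ X).left) := by
    have hinv : ∀ f : A ⊗ X ⟶ X, ∃ E : (A ⊗ X).left.Modules, PicF.IsInvertible E ∧
        PicF.cl E = (((pc hL f)⁻¹ : (PicF.Cl (A ⊗ X).left)ˣ) : PicF.Cl (A ⊗ X).left) := fun f => by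
      obtain ⟨E, hE, e⟩ := PicInv.exists_inverse (PicClLib.isInvertible_pullback f.left hL)
      refine ⟨E, hE, left_inv_eq_right_inv (a := (pc hL f : PicF.Cl (A ⊗ X).left)) ?_ (Units.mul_inv _)⟩
      rw [mul_comm]
      exact (PicGrp.cl_eq_cl_iff _ _).2 e
    obtain ⟨D1, hD1, e1⟩ := hinv (snd A X)
    obtain ⟨D2, hD2, e2⟩ := hinv (fst A X ≫ o)
    simp only [c, Units.val_mul, ← e1, ← e2]
    exact PicMul.isInvertibleCl_mul (PicMul.isInvertibleCl_mul
      (PicClLib.isInvertibleCl_pullCl _ ⟨L, rfl, hL⟩) ⟨D1, rfl, hD1⟩) ⟨D2, rfl, hD2⟩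
  have hPZ : AVDual.PZ A X (c : PicF.Cl (A ⊗ X).left) := by
    refine pz_of_slice x₀ hcI (n := 1) ⟨_, rfl, PicLoc.isInvertible_structureModule _⟩ ?_
    rw [PicMul.pullCl_one]
    exact hc2
  have hg := VarDim.topologicalKrullDim_eq_deg_genericPoint A.hom
  obtain ⟨ψ, hψ, -⟩ := AVDualStruct.existsUnique_classify hg (hdim.trans hg) hP hsep hD hamp hqc hPZ hc1
  refine ⟨Q, grp, q, hq, ψ, hQp, hQgi, hQsm, hqf, hqs, AVSepClassify.eq_of_slice hP hsep ?_,
    AVSepClassify.eq_of_slice hP hsep ?_⟩
  · rw [whiskerLeft_comp, ← pl_pl, hψ,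
      show (A ◁ x₀) = fst A _ ≫ lift (𝟙 A) (toUnit A ≫ x₀) by
        refine CartesianMonoidalCategory.hom_ext _ _ (by simp) ?_
        rw [whiskerLeft_snd, Category.assoc, lift_snd, ← Category.assoc, toUnit_unique (fst A _ ≫ toUnit A) (snd A _)],
      show (A ◁ (1 : 𝟙_ (Over (Spec (CommRingCat.of k))) ⟶ Q)) = fst A _ ≫ lift (𝟙 A) (1 : A ⟶ Q) by
        refine CartesianMonoidalCategory.hom_ext _ _ (by simp) ?_
        rw [whiskerLeft_snd, Category.assoc, lift_snd, MonObj.comp_one, MonObj.comp_one],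
      ← pl_pl, hc2, ← pl_pl, show pl (lift (𝟙 A) (1 : A ⟶ Q)) (PicF.cl P) = 1 from hsep.right, map_one]
  · rw [whiskerLeft_comp, ← pl_pl, hψ, show pl (A ◁ q) (PicF.cl P) = (mum hD (𝟙 A) : PicF.Cl (A ⊗ A).left) from hqc,
      hval]
    congr 1
    simp only [c, map_mul, map_inv, pull_pc, mum, hpc, Category.comp_id, whiskerLeft_snd, whiskerLeft_fst_assoc]
    rw [show (A ◁ o) ≫ a.act = (fst A A * snd A A) ≫ o by
      rw [show (fst A A * snd A A) ≫ o = lift (fst A A * snd A A) (toUnit _ ≫ x₀) ≫ a.act from comp_orb a x₀ _,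
        GrpSchLib.DiagActionRigid.act_mul]
      congr 1
      refine CartesianMonoidalCategory.hom_ext _ _ (by simp) ?_
      rw [whiskerLeft_snd, lift_snd]
      exact comp_orb a x₀ _]
    ac_rfl

end Groth.Agent.AVEquivar

end
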